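import Cfsg.Agent.Lib.KnownSimple.MultM.G23L.ValC0

/-!
# The relations between the relators
-/

set_option autoImplicit false

namespace Cfsg.Agent.Lib.KnownSimple.MultM.G23L

open Cfsg Cfsg.Spor Cfsg.Agent.Lib.Compute Cfsg.Agent.Lib.KnownSimple.PE Cfsg.Agent.Lib.KnownSimple.Leech
open Cfsg.Agent.Lib.KnownSimple Cfsg.Agent.Lib.KnownSimple.AutRigid Cfsg.Agent.Lib.KnownSimple.Pres
open Cfsg.Agent.Lib.KnownSimple.MultC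


theorem hEF : ∀ e, e < n * d → chkEdgeG 4294967296 mskM cKK C.τ d n RL 37 70 31 (lookP parT) (lookP genT) (lg 0 peL) tv e = true := by
  have h : allBelow fe 4536 = true :=
    allBelow_of_pad (m := 5) (s := 1024) (by norm_num) (fun c hc => by
    interval_cases c
    · exact ve0
    · exact ve1
    · exact ve2
    · exact ve3
    · exact ve4
  )
  intro e he
  exact (allBelow_iff _ _).1 h e he
set_option maxHeartbeats 0 in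
set_option maxRecDepth 100000 in
theorem hLn : allBelow (fun q => Nat.blt (((lg [] RL q).length + 1) * 65536) 4294967296) 37 = true := by decide +kernel
theorem hE : ∀ e, e < n * d → chkEdge C.τ d n RL 37 70 31 (lookP parT) (lookP genT) (lg 0 peL) (toV 4294967296 101 tv) e = true :=
  chkEdge_of_G (by norm_num) (good_of_mask (W := 32) (b := 16) (by norm_num) (by norm_num) (by norm_num) (by decide +kernel) (by decide +kernel))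
    (fun l i hl hi => C.hlt l i hl hi) (fun q _ => words_lg hokR q) (len_of_chk hLn) hEF
set_option maxRecDepth 100000 in
/-- The relations. -/
def rowsF : List (ℕ × ℕ × List ℤ) := [(0,0,[.ofNat 2]),
  (0,2,[.ofNat 0,.ofNat 0,.ofNat 2]),
  (0,3,[.ofNat 0,.ofNat 0,.ofNat 0,.ofNat 2]),
  (0,4,[]),
  (0,6,[.ofNat 6,.ofNat 6]),
  (0,7,[.ofNat 3,.ofNat 0,.ofNat 3]),
  (0,8,[.ofNat 6,.ofNat 0,.ofNat 0,.ofNat 6]),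
  (0,9,[.ofNat 3]),
  (0,11,[.ofNat 0,.ofNat 6,.ofNat 6]),
  (0,15,[.ofNat 0,.ofNat 0,.ofNat 3,.ofNat 3]),
  (0,16,[.ofNat 0,.ofNat 0,.ofNat 2]),
  (0,18,[.ofNat 0,.ofNat 0,.ofNat 0,.ofNat 2]),
  (0,21,[.ofNat 3,.ofNat 6,.ofNat 3]),
  (0,22,[.ofNat 4,.ofNat 4,.ofNat 4]),
  (0,23,[.ofNat 3,.ofNat 4,.ofNat 5]),
  (0,24,[.ofNat 4,.ofNat 3,.ofNat 0,.ofNat 3]),
  (0,25,[.ofNat 3,.ofNat 5,.ofNat 0,.ofNat 2]),
  (0,26,[.ofNat 2,.ofNat 4,.ofNat 2,.ofNat 2]),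
  (0,27,[.ofNat 3,.ofNat 2,.ofNat 0,.ofNat 2]),
  (0,28,[.ofNat 2,.ofNat 4,.ofNat 2,.ofNat 3]),
  (0,29,[.ofNat 2,.ofNat 3,.ofNat 0,.ofNat 3,.ofNat 0,.ofNat 0,.ofNat 0,.ofNat 0,.ofNat 0,.ofNat 0,.ofNat 0,.ofNat 0,.ofNat 0,.ofNat 0,.ofNat 0,.ofNat 0,.ofNat 0,.ofNat 0,.ofNat 0,.ofNat 0,.ofNat 0,.ofNat 0,.ofNat 0,.ofNat 0,.ofNat 0,.ofNat 0,.ofNat 0,.ofNat 0,.ofNat 0,.ofNat 0,.ofNat 0,.ofNat 0,.ofNat 0,.ofNat 0,.ofNat 0,.ofNat 0,.ofNat 0,.ofNat 0,.ofNat 0,.ofNat 0,.ofNat 0,.ofNat 0,.ofNat 0,.ofNat 0,.ofNat 0,.ofNat 0,.ofNat 0,.ofNat 0,.ofNat 0,.ofNat 0,.ofNat 0,.ofNat 0,.ofNat 0,.ofNat 0,.ofNat 0,.ofNat 0,.ofNat 0,.ofNat 0,.ofNat 0,.ofNat 0,.ofNat 0,.ofNat 0,.ofNat 0,.ofNat 0,.ofNat 0,.ofNat 0,.ofNat 0,.ofNat 0,.ofNat 0,.ofNat 0,.ofNat 0,.ofNat 0,.ofNat 0,.ofNat 0,.ofNat 0,.ofNat 0,.ofNat 0,.ofNat 0,.ofNat 0,.ofNat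 0,.ofNat 1]),
  (0,31,[.negSucc 0]),
  (0,32,[.ofNat 0,.negSucc 0]),
  (0,33,[.ofNat 0,.ofNat 0,.negSucc 0]),
  (0,34,[.ofNat 0,.ofNat 0,.ofNat 0,.negSucc 0]),
  (14,36,[.ofNat 0,.ofNat 0,.ofNat 0,.ofNat 0,.ofNat 0,.ofNat 0,.ofNat 0,.ofNat 0,.negSucc 0,.ofNat 0,.ofNat 0,.ofNat 0,.ofNat 0,.ofNat 0,.ofNat 0,.ofNat 0,.ofNat 0,.ofNat 0,.ofNat 0,.ofNat 0,.ofNat 0,.ofNat 0,.ofNat 0,.ofNat 0,.ofNat 0,.ofNat 0,.ofNat 0,.ofNat 0,.ofNat 0,.ofNat 0,.ofNat 0,.ofNat 0,.ofNat 0,.ofNat 0,.ofNat 0,.ofNat 0,.ofNat 0,.ofNat 0,.ofNat 0,.ofNat 0,.ofNat 0,.ofNat 0,.ofNat 0,.ofNat 0,.ofNat 0,.ofNat 0,.ofNat 0,.ofNat 0,.ofNat 0,.ofNat 0,.ofNat 0,.ofNat 0,.ofNat 0,.ofNat 0,.ofNat 0,.ofNat 0,.ofNat 0,.ofNat 0,.ofNat 0,.ofNat 0,.ofNat 0,.ofNat 0,.ofNat 0,.ofNat 0,.ofNat 0,.ofNat 0,.ofNat 0,.ofNat 0,.ofNat 0,.ofNat 0,.negSucc 2,.ofNat 0,.negSucc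 0,.ofNat 0,.negSucc 1,.ofNat 0,.ofNat 0,.ofNat 1,.ofNat 0,.ofNat 1]),
  (28,36,[.ofNat 0,.ofNat 0,.ofNat 0,.ofNat 0,.ofNat 0,.ofNat 0,.ofNat 0,.ofNat 0,.ofNat 0,.ofNat 0,.ofNat 0,.ofNat 0,.ofNat 0,.ofNat 0,.ofNat 0,.ofNat 0,.ofNat 0,.ofNat 0,.ofNat 0,.ofNat 0,.ofNat 0,.ofNat 0,.ofNat 0,.ofNat 0,.ofNat 0,.ofNat 0,.ofNat 0,.ofNat 0,.ofNat 0,.ofNat 0,.ofNat 0,.ofNat 0,.ofNat 0,.ofNat 0,.ofNat 0,.ofNat 0,.ofNat 0,.ofNat 0,.ofNat 0,.ofNat 0,.ofNat 0,.ofNat 0,.ofNat 0,.ofNat 0,.ofNat 0,.ofNat 0,.ofNat 0,.ofNat 0,.ofNat 0,.ofNat 0,.ofNat 0,.ofNat 0,.ofNat 0,.ofNat 0,.ofNat 0,.ofNat 0,.ofNat 0,.ofNat 0,.ofNat 0,.ofNat 0,.ofNat 0,.ofNat 0,.ofNat 0,.ofNat 0,.ofNat 0,.ofNat 0,.ofNat 0,.ofNat 0,.ofNat 0,.ofNat 0,.ofNat 0,.ofNat 0,.ofNat 0,.ofNat 0,.ofNat 2,.ofNat 1,.ofNat 0,.ofNat 0,.ofNat 0,.ofNat 0,.ofNat 0,.ofNat 0,.ofNat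 0,.ofNat 0,.ofNat 0,.ofNat 0,.ofNat 0,.ofNat 0,.ofNat 0,.ofNat 0,.negSucc 0]),
  (133,24,[.ofNat 0,.ofNat 0,.ofNat 0,.ofNat 0,.ofNat 0,.ofNat 0,.ofNat 0,.ofNat 0,.ofNat 0,.ofNat 0,.ofNat 0,.ofNat 0,.ofNat 0,.ofNat 0,.ofNat 0,.ofNat 0,.ofNat 0,.ofNat 0,.ofNat 0,.ofNat 0,.ofNat 0,.ofNat 0,.ofNat 0,.ofNat 0,.ofNat 0,.ofNat 0,.ofNat 0,.ofNat 0,.ofNat 0,.ofNat 0,.ofNat 0,.negSucc 0,.ofNat 0,.ofNat 0,.ofNat 0,.ofNat 0,.ofNat 0,.ofNat 0,.ofNat 0,.ofNat 0,.ofNat 0,.ofNat 0,.ofNat 0,.ofNat 0,.ofNat 0,.ofNat 0,.ofNat 0,.ofNat 0,.ofNat 0,.ofNat 0,.ofNat 0,.ofNat 0,.ofNat 0,.ofNat 0,.ofNat 0,.ofNat 0,.ofNat 0,.ofNat 0,.ofNat 0,.ofNat 0,.ofNat 0,.ofNat 0,.ofNat 0,.ofNat 0,.ofNat 0,.ofNat 0,.ofNat 0,.ofNat 0,.ofNat 0,.ofNat 0,.negSucc 0,.negSucc 0,.ofNat 0,.negSucc 0,.ofNat 2,.ofNat 0,.ofNat 0,.ofNat 0,.ofNat 0,.ofNat 1,.ofNat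 0,.ofNat 0,.ofNat 1,.negSucc 0,.ofNat 0,.ofNat 0,.ofNat 0,.ofNat 0,.negSucc 0,.ofNat 0,.ofNat 0,.ofNat 0,.ofNat 0,.ofNat 0,.ofNat 0,.ofNat 1]),
  (135,32,[.ofNat 0,.ofNat 0,.ofNat 0,.ofNat 0,.ofNat 0,.ofNat 0,.ofNat 0,.ofNat 0,.ofNat 0,.ofNat 0,.ofNat 0,.ofNat 0,.ofNat 0,.ofNat 0,.ofNat 0,.ofNat 0,.ofNat 0,.ofNat 0,.ofNat 0,.ofNat 0,.ofNat 0,.ofNat 0,.ofNat 0,.ofNat 0,.ofNat 0,.ofNat 0,.ofNat 0,.ofNat 0,.ofNat 0,.ofNat 0,.ofNat 0,.ofNat 0,.ofNat 0,.ofNat 0,.ofNat 0,.ofNat 0,.ofNat 0,.ofNat 0,.ofNat 0,.ofNat 0,.ofNat 0,.ofNat 0,.ofNat 0,.ofNat 0,.ofNat 0,.ofNat 0,.ofNat 0,.ofNat 0,.ofNat 0,.ofNat 0,.ofNat 0,.ofNat 0,.ofNat 0,.ofNat 0,.ofNat 0,.ofNat 0,.ofNat 0,.ofNat 0,.ofNat 0,.ofNat 0,.ofNat 0,.ofNat 0,.ofNat 0,.ofNat 0,.ofNat 0,.ofNat 0,.ofNat 0,.ofNat 0,.ofNat 0,.ofNat 0,.ofNat 0,.ofNat 1,.ofNat 0,.ofNat 0,.ofNat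 2,.ofNat 0,.ofNat 0,.ofNat 0,.ofNat 0,.ofNat 0,.ofNat 0,.ofNat 0,.ofNat 0,.negSucc 0]),
  (156,29,[.ofNat 0,.negSucc 5,.negSucc 5,.negSucc 2,.ofNat 0,.ofNat 0,.ofNat 0,.ofNat 0,.ofNat 0,.ofNat 0,.ofNat 0,.ofNat 0,.ofNat 0,.ofNat 0,.ofNat 0,.ofNat 0,.ofNat 0,.ofNat 0,.ofNat 0,.ofNat 0,.ofNat 0,.ofNat 0,.ofNat 0,.ofNat 0,.ofNat 0,.ofNat 0,.ofNat 0,.ofNat 0,.ofNat 0,.ofNat 0,.ofNat 0,.ofNat 0,.ofNat 0,.ofNat 0,.ofNat 0,.ofNat 0,.ofNat 0,.ofNat 0,.ofNat 0,.ofNat 0,.ofNat 0,.ofNat 0,.ofNat 0,.ofNat 0,.ofNat 0,.ofNat 0,.ofNat 0,.ofNat 0,.ofNat 0,.ofNat 0,.ofNat 0,.ofNat 0,.ofNat 0,.ofNat 0,.ofNat 0,.ofNat 0,.ofNat 0,.ofNat 0,.ofNat 0,.ofNat 0,.ofNat 0,.ofNat 0,.ofNat 0,.ofNat 0,.ofNat 0,.ofNat 0,.ofNat 0,.ofNat 0,.ofNat 0,.ofNat 0,.ofNat 3,.negSucc 14,.ofNat 0,.negSucc 5,.negSucc 0,.ofNat 0,.ofNat 0,.ofNat 0,.ofNat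 0,.ofNat 0,.negSucc 0,.ofNat 0,.ofNat 2,.ofNat 1,.ofNat 0,.ofNat 0,.ofNat 0,.ofNat 0,.ofNat 5,.ofNat 0,.ofNat 0,.ofNat 0,.ofNat 0,.ofNat 0,.negSucc 0,.ofNat 5,.ofNat 0,.negSucc 4,.ofNat 0,.ofNat 0,.ofNat 3]),
  (158,19,[.ofNat 1,.negSucc 0,.ofNat 0,.ofNat 0,.ofNat 0,.ofNat 0,.ofNat 0,.ofNat 0,.ofNat 0,.ofNat 0,.ofNat 0,.ofNat 0,.ofNat 0,.ofNat 0,.ofNat 0,.ofNat 0,.ofNat 0,.ofNat 0,.ofNat 0,.ofNat 0,.ofNat 0,.ofNat 0,.ofNat 0,.ofNat 0,.ofNat 0,.ofNat 0,.ofNat 0,.ofNat 0,.ofNat 0,.ofNat 0,.ofNat 0,.ofNat 0,.ofNat 0,.ofNat 0,.ofNat 0,.ofNat 0,.ofNat 0,.ofNat 0,.ofNat 0,.ofNat 0,.ofNat 0,.ofNat 0,.ofNat 0,.ofNat 0,.ofNat 0,.ofNat 0,.ofNat 0,.ofNat 0,.ofNat 0,.ofNat 0,.ofNat 0,.ofNat 0,.ofNat 0,.ofNat 0,.ofNat 0,.ofNat 0,.ofNat 0,.ofNat 0,.ofNat 0,.ofNat 0,.ofNat 0,.ofNat 0,.ofNat 0,.ofNat 0,.ofNat 0,.ofNat 0,.ofNat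 0,.ofNat 0,.ofNat 0,.ofNat 0,.ofNat 1,.negSucc 2,.ofNat 0,.ofNat 4,.negSucc 1,.ofNat 0,.ofNat 0,.ofNat 0,.ofNat 0,.ofNat 0,.negSucc 0,.ofNat 0,.ofNat 0,.ofNat 0,.ofNat 1,.ofNat 0,.ofNat 0,.ofNat 0,.ofNat 0,.ofNat 0,.ofNat 1]),
  (450,24,[.ofNat 0,.ofNat 0,.ofNat 0,.ofNat 0,.ofNat 0,.ofNat 0,.ofNat 0,.ofNat 0,.ofNat 0,.ofNat 0,.ofNat 0,.ofNat 0,.ofNat 0,.ofNat 0,.ofNat 0,.ofNat 0,.ofNat 0,.ofNat 0,.ofNat 0,.ofNat 0,.ofNat 0,.ofNat 0,.ofNat 0,.ofNat 0,.ofNat 0,.ofNat 0,.ofNat 0,.ofNat 0,.ofNat 0,.ofNat 0,.ofNat 0,.ofNat 0,.ofNat 0,.ofNat 0,.ofNat 0,.ofNat 0,.ofNat 0,.ofNat 0,.ofNat 0,.ofNat 0,.ofNat 0,.ofNat 0,.ofNat 0,.ofNat 0,.ofNat 0,.ofNat 0,.ofNat 0,.ofNat 0,.ofNat 0,.ofNat 0,.ofNat 0,.ofNat 0,.ofNat 0,.ofNat 0,.ofNat 0,.ofNat 0,.ofNat 0,.ofNat 0,.ofNat 0,.ofNat 0,.ofNat 0,.ofNat 0,.ofNat 0,.ofNat 0,.ofNat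 0,.ofNat 0,.ofNat 0,.ofNat 0,.ofNat 0,.ofNat 0,.ofNat 0,.negSucc 1,.ofNat 0,.negSucc 1,.ofNat 0,.ofNat 0,.ofNat 0,.ofNat 0,.ofNat 0,.ofNat 0,.ofNat 0,.ofNat 0,.ofNat 1,.ofNat 0,.ofNat 0,.ofNat 0,.ofNat 0,.ofNat 0,.ofNat 0,.ofNat 0,.ofNat 0,.ofNat 0,.ofNat 0,.ofNat 0,.ofNat 1]),
  (465,20,[.ofNat 0,.negSucc 0,.ofNat 0,.ofNat 0,.ofNat 0,.ofNat 0,.ofNat 0,.ofNat 0,.ofNat 0,.ofNat 0,.ofNat 0,.ofNat 0,.ofNat 0,.ofNat 0,.ofNat 0,.ofNat 0,.ofNat 0,.ofNat 0,.ofNat 0,.ofNat 0,.ofNat 0,.ofNat 0,.ofNat 0,.ofNat 0,.ofNat 0,.ofNat 0,.ofNat 0,.ofNat 0,.ofNat 0,.ofNat 0,.ofNat 0,.ofNat 0,.ofNat 0,.ofNat 0,.ofNat 0,.ofNat 0,.ofNat 0,.ofNat 0,.ofNat 0,.ofNat 0,.ofNat 0,.ofNat 0,.ofNat 0,.ofNat 0,.ofNat 0,.ofNat 0,.ofNat 0,.ofNat 0,.ofNat 0,.ofNat 0,.ofNat 0,.ofNat 0,.ofNat 0,.ofNat 0,.ofNat 0,.ofNat 0,.ofNat 0,.ofNat 0,.ofNat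 0,.ofNat 0,.ofNat 0,.ofNat 0,.ofNat 0,.ofNat 0,.ofNat 0,.ofNat 0,.ofNat 0,.ofNat 0,.ofNat 0,.ofNat 0,.ofNat 0,.negSucc 2,.ofNat 0,.ofNat 0,.ofNat 2,.negSucc 4,.ofNat 0,.ofNat 0,.ofNat 0,.negSucc 0,.ofNat 1,.ofNat 0,.ofNat 0,.ofNat 0,.ofNat 1,.ofNat 0,.ofNat 0,.ofNat 0,.ofNat 0,.ofNat 0,.ofNat 1]),
  (483,3,[.ofNat 0,.ofNat 0,.ofNat 0,.ofNat 0,.ofNat 0,.ofNat 0,.ofNat 0,.ofNat 0,.ofNat 0,.ofNat 0,.ofNat 0,.ofNat 0,.ofNat 0,.ofNat 0,.ofNat 0,.ofNat 0,.ofNat 0,.ofNat 0,.ofNat 0,.ofNat 0,.ofNat 0,.ofNat 0,.ofNat 0,.ofNat 0,.ofNat 0,.ofNat 0,.ofNat 0,.ofNat 0,.ofNat 0,.ofNat 0,.ofNat 0,.ofNat 0,.ofNat 0,.ofNat 0,.ofNat 0,.ofNat 0,.ofNat 0,.ofNat 0,.ofNat 0,.ofNat 0,.ofNat 0,.ofNat 0,.ofNat 0,.ofNat 0,.ofNat 0,.ofNat 0,.ofNat 0,.ofNat 0,.ofNat 0,.ofNat 0,.ofNat 0,.ofNat 0,.ofNat 0,.ofNat 0,.ofNat 0,.ofNat 0,.ofNat 0,.ofNat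 0,.ofNat 0,.ofNat 0,.ofNat 0,.ofNat 0,.ofNat 0,.ofNat 0,.ofNat 0,.ofNat 0,.ofNat 0,.ofNat 0,.ofNat 0,.ofNat 0,.ofNat 3,.ofNat 0,.ofNat 0,.ofNat 1,.ofNat 0,.ofNat 1,.ofNat 0,.ofNat 0,.ofNat 0,.ofNat 0,.negSucc 1]),
  (683,36,[.ofNat 0,.ofNat 0,.ofNat 0,.ofNat 0,.ofNat 0,.ofNat 0,.ofNat 0,.ofNat 0,.ofNat 0,.ofNat 0,.ofNat 0,.ofNat 0,.ofNat 0,.ofNat 0,.ofNat 0,.ofNat 0,.ofNat 0,.ofNat 0,.ofNat 0,.ofNat 0,.ofNat 0,.ofNat 0,.ofNat 0,.ofNat 0,.ofNat 0,.ofNat 0,.ofNat 0,.ofNat 0,.ofNat 0,.ofNat 0,.ofNat 0,.negSucc 0,.ofNat 0,.ofNat 0,.ofNat 0,.ofNat 0,.ofNat 0,.ofNat 0,.ofNat 0,.ofNat 0,.ofNat 0,.ofNat 0,.ofNat 0,.ofNat 0,.ofNat 0,.ofNat 0,.ofNat 0,.ofNat 0,.ofNat 0,.ofNat 0,.ofNat 0,.ofNat 0,.ofNat 0,.ofNat 0,.ofNat 0,.ofNat 0,.ofNat 0,.ofNat 0,.ofNat 0,.ofNat 0,.ofNat 0,.ofNat 0,.ofNat 0,.ofNat 0,.ofNat 0,.ofNat 0,.ofNat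 0,.ofNat 0,.ofNat 0,.ofNat 0,.ofNat 0,.ofNat 0,.negSucc 1,.negSucc 0,.ofNat 2,.ofNat 1,.ofNat 0,.ofNat 1,.ofNat 0,.ofNat 0,.negSucc 0,.ofNat 0,.ofNat 0,.ofNat 0,.ofNat 0,.ofNat 1,.negSucc 0,.ofNat 0,.negSucc 0]),
  (727,1,[]),
  (727,33,[.ofNat 0,.ofNat 0,.ofNat 0,.ofNat 0,.ofNat 0,.ofNat 0,.ofNat 0,.ofNat 0,.negSucc 0,.ofNat 0,.ofNat 0,.ofNat 0,.ofNat 0,.ofNat 0,.ofNat 0,.ofNat 0,.ofNat 0,.ofNat 0,.ofNat 0,.ofNat 0,.ofNat 0,.ofNat 0,.ofNat 0,.ofNat 0,.ofNat 0,.ofNat 0,.ofNat 0,.ofNat 0,.ofNat 0,.ofNat 0,.ofNat 0,.ofNat 0,.ofNat 0,.ofNat 0,.ofNat 0,.ofNat 0,.ofNat 0,.ofNat 0,.ofNat 0,.ofNat 0,.ofNat 0,.ofNat 0,.ofNat 0,.ofNat 0,.ofNat 0,.ofNat 0,.ofNat 0,.ofNat 0,.ofNat 0,.ofNat 0,.ofNat 0,.ofNat 0,.ofNat 0,.ofNat 0,.ofNat 0,.ofNat 0,.ofNat 0,.ofNat 0,.ofNat 0,.ofNat 0,.ofNat 0,.ofNat 0,.ofNat 0,.ofNat 0,.ofNat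 0,.ofNat 0,.ofNat 0,.ofNat 0,.ofNat 0,.ofNat 0,.ofNat 0,.ofNat 0,.ofNat 5,.ofNat 0,.negSucc 0,.ofNat 6,.ofNat 0,.ofNat 0,.ofNat 0,.ofNat 0,.ofNat 0,.ofNat 0,.ofNat 0,.ofNat 0,.ofNat 0,.ofNat 0,.ofNat 1,.negSucc 0])]
set_option maxHeartbeats 0 in
set_option maxRecDepth 100000 in
theorem hF : ∀ x ∈ rowsF, chkRow C.τ d n RL 37 (n * d) 3713 (toV 4294967296 101 tv) x = true := by
  have h : rowsF.all (chkRow τ d n RL 37 (n * d) 3713 (toV 4294967296 101 tv)) = true := by decide +kernel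
  exact fun x hx => List.all_eq_true.1 h x hx
set_option maxRecDepth 100000 in
/-- A combination. -/
def cb0 : List (ℕ × ℤ) := [(0,.negSucc 0),(21,.negSucc 1)]
set_option maxHeartbeats 0 in
set_option maxRecDepth 100000 in
theorem hcb0 : chkComb 70 31 rowsF 30 0 (0) cb0 = true := by decide +kernel
set_option maxRecDepth 100000 in
/-- A combination. -/
def cb1 : List (ℕ × ℤ) := [(35,.negSucc 0)]
set_option maxHeartbeats 0 in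
set_option maxRecDepth 100000 in
theorem hcb1 : chkComb 70 31 rowsF 30 1 (0) cb1 = true := by decide +kernel
set_option maxRecDepth 100000 in
/-- A combination. -/
def cb2 : List (ℕ × ℤ) := [(1,.negSucc 0),(23,.negSucc 1)]
set_option maxHeartbeats 0 in
set_option maxRecDepth 100000 in
theorem hcb2 : chkComb 70 31 rowsF 30 2 (0) cb2 = true := by decide +kernel
set_option maxRecDepth 100000 in
/-- A combination. -/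
def cb3 : List (ℕ × ℤ) := [(2,.negSucc 0),(24,.negSucc 1)]
set_option maxHeartbeats 0 in
set_option maxRecDepth 100000 in
theorem hcb3 : chkComb 70 31 rowsF 30 3 (0) cb3 = true := by decide +kernel
set_option maxRecDepth 100000 in
/-- A combination. -/
def cb4 : List (ℕ × ℤ) := [(3,.negSucc 0)]
set_option maxHeartbeats 0 in
set_option maxRecDepth 100000 in
theorem hcb4 : chkComb 70 31 rowsF 30 4 (0) cb4 = true := by decide +kernel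
set_option maxRecDepth 100000 in
/-- A combination. -/
def cb5 : List (ℕ × ℤ) := [(0,.negSucc 0),(1,.negSucc 3),(2,.negSucc 3),(3,.ofNat 4),(5,.ofNat 2),(7,.negSucc 1),(9,.ofNat 2),(10,.negSucc 1),(15,.ofNat 2),(16,.negSucc 1),(22,.negSucc 3),(27,.negSucc 1),(28,.ofNat 2),(31,.ofNat 2),(33,.negSucc 0),(34,.ofNat 2)]
set_option maxHeartbeats 0 in
set_option maxRecDepth 100000 in
theorem hcb5 : chkComb 70 31 rowsF 30 5 (0) cb5 = true := by decide +kernel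
set_option maxRecDepth 100000 in
/-- A combination. -/
def cb6 : List (ℕ × ℤ) := [(4,.negSucc 0),(21,.negSucc 5),(22,.negSucc 5)]
set_option maxHeartbeats 0 in
set_option maxRecDepth 100000 in
theorem hcb6 : chkComb 70 31 rowsF 30 6 (0) cb6 = true := by decide +kernel
set_option maxRecDepth 100000 in
/-- A combination. -/
def cb7 : List (ℕ × ℤ) := [(5,.negSucc 0),(21,.negSucc 2),(23,.negSucc 2)]
set_option maxHeartbeats 0 in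
set_option maxRecDepth 100000 in
theorem hcb7 : chkComb 70 31 rowsF 30 7 (0) cb7 = true := by decide +kernel
set_option maxRecDepth 100000 in
/-- A combination. -/
def cb8 : List (ℕ × ℤ) := [(6,.negSucc 0),(21,.negSucc 5),(24,.negSucc 5)]
set_option maxHeartbeats 0 in
set_option maxRecDepth 100000 in
theorem hcb8 : chkComb 70 31 rowsF 30 8 (0) cb8 = true := by decide +kernel
set_option maxRecDepth 100000 in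
/-- A combination. -/
def cb9 : List (ℕ × ℤ) := [(7,.negSucc 0),(21,.negSucc 2)]
set_option maxHeartbeats 0 in
set_option maxRecDepth 100000 in
theorem hcb9 : chkComb 70 31 rowsF 30 9 (0) cb9 = true := by decide +kernel
set_option maxRecDepth 100000 in
/-- A combination. -/
def cb10 : List (ℕ × ℤ) := [(0,.negSucc 1),(1,.negSucc 1),(2,.negSucc 1),(3,.ofNat 2),(5,.ofNat 1),(7,.negSucc 0),(9,.ofNat 1),(10,.negSucc 0),(15,.ofNat 1),(16,.negSucc 0),(21,.negSucc 2),(22,.negSucc 1),(27,.negSucc 0),(28,.ofNat 1),(31,.ofNat 1),(33,.negSucc 0),(34,.ofNat 1)]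
set_option maxHeartbeats 0 in
set_option maxRecDepth 100000 in
theorem hcb10 : chkComb 70 31 rowsF 30 10 (0) cb10 = true := by decide +kernel
set_option maxRecDepth 100000 in
/-- A combination. -/
def cb11 : List (ℕ × ℤ) := [(8,.negSucc 0),(22,.negSucc 5),(23,.negSucc 5)]
set_option maxHeartbeats 0 in
set_option maxRecDepth 100000 in
theorem hcb11 : chkComb 70 31 rowsF 30 11 (0) cb11 = true := by decide +kernel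
set_option maxRecDepth 100000 in
/-- A combination. -/
def cb12 : List (ℕ × ℤ) := [(2,.negSucc 1),(24,.negSucc 3),(31,.ofNat 1),(35,.negSucc 1)]
set_option maxHeartbeats 0 in
set_option maxRecDepth 100000 in
theorem hcb12 : chkComb 70 31 rowsF 30 12 (0) cb12 = true := by decide +kernel
set_option maxRecDepth 100000 in
/-- A combination. -/
def cb13 : List (ℕ × ℤ) := [(3,.negSucc 1),(28,.negSucc 0),(35,.negSucc 0)]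
set_option maxHeartbeats 0 in
set_option maxRecDepth 100000 in
theorem hcb13 : chkComb 70 31 rowsF 30 13 (0) cb13 = true := by decide +kernel
set_option maxRecDepth 100000 in
/-- A combination. -/
def cb14 : List (ℕ × ℤ) := [(0,.negSucc 2),(1,.negSucc 17),(2,.negSucc 17),(3,.ofNat 20),(5,.ofNat 9),(7,.negSucc 9),(9,.ofNat 9),(10,.negSucc 8),(15,.ofNat 9),(16,.negSucc 8),(22,.negSucc 18),(27,.negSucc 8),(28,.ofNat 9),(31,.ofNat 9),(32,.ofNat 1),(33,.negSucc 3),(34,.ofNat 9),(35,.negSucc 2)]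
set_option maxHeartbeats 0 in
set_option maxRecDepth 100000 in
theorem hcb14 : chkComb 70 31 rowsF 30 14 (0) cb14 = true := by decide +kernel
set_option maxRecDepth 100000 in
/-- A combination. -/
def cb15 : List (ℕ × ℤ) := [(9,.negSucc 0),(23,.negSucc 2),(24,.negSucc 2)]
set_option maxHeartbeats 0 in
set_option maxRecDepth 100000 in
theorem hcb15 : chkComb 70 31 rowsF 30 15 (0) cb15 = true := by decide +kernel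
set_option maxRecDepth 100000 in
/-- A combination. -/
def cb16 : List (ℕ × ℤ) := [(10,.negSucc 0),(23,.negSucc 1)]
set_option maxHeartbeats 0 in
set_option maxRecDepth 100000 in
theorem hcb16 : chkComb 70 31 rowsF 30 16 (0) cb16 = true := by decide +kernel
set_option maxRecDepth 100000 in
/-- A combination. -/
def cb17 : List (ℕ × ℤ) := [(0,.negSucc 8),(1,.negSucc 29),(2,.negSucc 23),(3,.ofNat 23),(5,.ofNat 13),(7,.negSucc 10),(9,.ofNat 12),(10,.negSucc 12),(15,.ofNat 12),(16,.negSucc 11),(22,.negSucc 23),(23,.negSucc 10),(25,.ofNat 1),(27,.negSucc 11),(28,.ofNat 12),(31,.ofNat 12),(33,.negSucc 5),(34,.ofNat 12),(36,.negSucc 0)]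
set_option maxHeartbeats 0 in
set_option maxRecDepth 100000 in
theorem hcb17 : chkComb 70 31 rowsF 30 17 (0) cb17 = true := by decide +kernel
set_option maxRecDepth 100000 in
/-- A combination. -/
def cb18 : List (ℕ × ℤ) := [(11,.negSucc 0),(24,.negSucc 1)]
set_option maxHeartbeats 0 in
set_option maxRecDepth 100000 in
theorem hcb18 : chkComb 70 31 rowsF 30 18 (0) cb18 = true := by decide +kernel
set_option maxRecDepth 100000 in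
/-- A combination. -/
def cb19 : List (ℕ × ℤ) := [(0,.negSucc 2),(1,.negSucc 19),(2,.negSucc 23),(3,.ofNat 22),(5,.ofNat 10),(7,.negSucc 10),(9,.ofNat 10),(10,.negSucc 9),(15,.ofNat 10),(16,.negSucc 9),(22,.negSucc 19),(24,.negSucc 7),(26,.negSucc 0),(27,.negSucc 9),(28,.ofNat 10),(30,.negSucc 0),(31,.ofNat 10),(32,.ofNat 1),(33,.negSucc 3),(34,.ofNat 10)]
set_option maxHeartbeats 0 in
set_option maxRecDepth 100000 in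
theorem hcb19 : chkComb 70 31 rowsF 30 19 (0) cb19 = true := by decide +kernel
set_option maxRecDepth 100000 in
/-- A combination. -/
def cb20 : List (ℕ × ℤ) := [(0,.negSucc 0),(1,.negSucc 3),(2,.negSucc 3),(3,.ofNat 2),(5,.ofNat 2),(7,.negSucc 1),(9,.ofNat 2),(10,.negSucc 1),(15,.ofNat 2),(16,.negSucc 1),(22,.negSucc 3),(26,.negSucc 0),(27,.negSucc 1),(28,.ofNat 2),(31,.ofNat 2),(33,.negSucc 0),(34,.ofNat 2)]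
set_option maxHeartbeats 0 in
set_option maxRecDepth 100000 in
theorem hcb20 : chkComb 70 31 rowsF 30 20 (0) cb20 = true := by decide +kernel
set_option maxRecDepth 100000 in
/-- A combination. -/
def cb21 : List (ℕ × ℤ) := [(12,.negSucc 0),(21,.negSucc 2),(22,.negSucc 5),(23,.negSucc 2)]
set_option maxHeartbeats 0 in
set_option maxRecDepth 100000 in
theorem hcb21 : chkComb 70 31 rowsF 30 21 (0) cb21 = true := by decide +kernel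
set_option maxRecDepth 100000 in
/-- A combination. -/
def cb22 : List (ℕ × ℤ) := [(13,.negSucc 0),(21,.negSucc 3),(22,.negSucc 3),(23,.negSucc 3)]
set_option maxHeartbeats 0 in
set_option maxRecDepth 100000 in
theorem hcb22 : chkComb 70 31 rowsF 30 22 (0) cb22 = true := by decide +kernel
set_option maxRecDepth 100000 in
/-- A combination. -/
def cb23 : List (ℕ × ℤ) := [(14,.negSucc 0),(21,.negSucc 2),(22,.negSucc 3),(23,.negSucc 4)]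
set_option maxHeartbeats 0 in
set_option maxRecDepth 100000 in
theorem hcb23 : chkComb 70 31 rowsF 30 23 (0) cb23 = true := by decide +kernel
set_option maxRecDepth 100000 in
/-- A combination. -/
def cb24 : List (ℕ × ℤ) := [(15,.negSucc 0),(21,.negSucc 3),(22,.negSucc 2),(24,.negSucc 2)]
set_option maxHeartbeats 0 in
set_option maxRecDepth 100000 in
theorem hcb24 : chkComb 70 31 rowsF 30 24 (0) cb24 = true := by decide +kernel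
set_option maxRecDepth 100000 in
/-- A combination. -/
def cb25 : List (ℕ × ℤ) := [(16,.negSucc 0),(21,.negSucc 2),(22,.negSucc 4),(24,.negSucc 1)]
set_option maxHeartbeats 0 in
set_option maxRecDepth 100000 in
theorem hcb25 : chkComb 70 31 rowsF 30 25 (0) cb25 = true := by decide +kernel
set_option maxRecDepth 100000 in
/-- A combination. -/
def cb26 : List (ℕ × ℤ) := [(17,.negSucc 0),(21,.negSucc 1),(22,.negSucc 3),(23,.negSucc 1),(24,.negSucc 1)]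
set_option maxHeartbeats 0 in
set_option maxRecDepth 100000 in
theorem hcb26 : chkComb 70 31 rowsF 30 26 (0) cb26 = true := by decide +kernel
set_option maxRecDepth 100000 in
/-- A combination. -/
def cb27 : List (ℕ × ℤ) := [(18,.negSucc 0),(21,.negSucc 2),(22,.negSucc 1),(24,.negSucc 1)]
set_option maxHeartbeats 0 in
set_option maxRecDepth 100000 in
theorem hcb27 : chkComb 70 31 rowsF 30 27 (0) cb27 = true := by decide +kernel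
set_option maxRecDepth 100000 in
/-- A combination. -/
def cb28 : List (ℕ × ℤ) := [(19,.negSucc 0),(21,.negSucc 1),(22,.negSucc 3),(23,.negSucc 1),(24,.negSucc 2)]
set_option maxHeartbeats 0 in
set_option maxRecDepth 100000 in
theorem hcb28 : chkComb 70 31 rowsF 30 28 (0) cb28 = true := by decide +kernel
set_option maxRecDepth 100000 in
/-- A combination. -/
def cb29 : List (ℕ × ℤ) := [(0,.negSucc 1),(1,.negSucc 1),(2,.negSucc 1),(3,.ofNat 2),(5,.ofNat 1),(7,.negSucc 0),(9,.ofNat 1),(10,.negSucc 0),(15,.ofNat 1),(16,.negSucc 0),(20,.negSucc 0),(21,.negSucc 4),(22,.negSucc 4),(24,.negSucc 2),(27,.negSucc 0),(28,.ofNat 1),(31,.ofNat 1),(33,.negSucc 0),(34,.ofNat 1)]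
set_option maxHeartbeats 0 in
set_option maxRecDepth 100000 in
theorem hcb29 : chkComb 70 31 rowsF 30 29 (0) cb29 = true := by decide +kernel
set_option maxRecDepth 100000 in
/-- A combination. -/
def cb30 : List (ℕ × ℤ) := [(0,.negSucc 0),(1,.negSucc 3),(2,.negSucc 5),(3,.ofNat 5),(5,.ofNat 2),(7,.negSucc 1),(9,.ofNat 2),(10,.negSucc 1),(11,.ofNat 5),(15,.ofNat 1),(16,.ofNat 3),(18,.negSucc 4),(20,.negSucc 0),(21,.negSucc 5),(22,.negSucc 0),(23,.negSucc 5),(24,.negSucc 2),(27,.negSucc 1),(28,.ofNat 3),(29,.ofNat 1),(33,.negSucc 1),(34,.ofNat 2),(35,.negSucc 9)]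
set_option maxHeartbeats 0 in
set_option maxRecDepth 100000 in
theorem hcb30 : chkComb 70 31 rowsF 30 30 (-2) cb30 = true := by decide +kernel

theorem hcert : ∀ q, q < 31 → ∃ (a : ℤ) (L : List (ℕ × ℤ)), chkComb 70 31 rowsF 30 q a L = true ∧ (q = 30 → a = 1 - ((3 : ℕ) : ℤ)) := by
  intro q hq
  interval_cases q
  · exact ⟨0, cb0, hcb0, by norm_num⟩
  · exact ⟨0, cb1, hcb1, by norm_num⟩
  · exact ⟨0, cb2, hcb2, by norm_num⟩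
  · exact ⟨0, cb3, hcb3, by norm_num⟩
  · exact ⟨0, cb4, hcb4, by norm_num⟩
  · exact ⟨0, cb5, hcb5, by norm_num⟩
  · exact ⟨0, cb6, hcb6, by norm_num⟩
  · exact ⟨0, cb7, hcb7, by norm_num⟩
  · exact ⟨0, cb8, hcb8, by norm_num⟩
  · exact ⟨0, cb9, hcb9, by norm_num⟩
  · exact ⟨0, cb10, hcb10, by norm_num⟩
  · exact ⟨0, cb11, hcb11, by norm_num⟩
  · exact ⟨0, cb12, hcb12, by norm_num⟩
  · exact ⟨0, cb13, hcb13, by norm_num⟩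
  · exact ⟨0, cb14, hcb14, by norm_num⟩
  · exact ⟨0, cb15, hcb15, by norm_num⟩
  · exact ⟨0, cb16, hcb16, by norm_num⟩
  · exact ⟨0, cb17, hcb17, by norm_num⟩
  · exact ⟨0, cb18, hcb18, by norm_num⟩
  · exact ⟨0, cb19, hcb19, by norm_num⟩
  · exact ⟨0, cb20, hcb20, by norm_num⟩
  · exact ⟨0, cb21, hcb21, by norm_num⟩
  · exact ⟨0, cb22, hcb22, by norm_num⟩
  · exact ⟨0, cb23, hcb23, by norm_num⟩
  · exact ⟨0, cb24, hcb24, by norm_num⟩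
  · exact ⟨0, cb25, hcb25, by norm_num⟩
  · exact ⟨0, cb26, hcb26, by norm_num⟩
  · exact ⟨0, cb27, hcb27, by norm_num⟩
  · exact ⟨0, cb28, hcb28, by norm_num⟩
  · exact ⟨0, cb29, hcb29, by norm_num⟩
  · exact ⟨-2, cb30, hcb30, by norm_num⟩


end Cfsg.Agent.Lib.KnownSimple.MultM.G23L
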